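import Mathlib

/-! Hochschild's formula `(f D)^p = f^p D^p + (f θ)^(p-1)(f) D` in characteristic `p`. -/

set_option autoImplicit false

universe u v

open MvPolynomial Finset

namespace Groth.Agent.Hochschild

theorem iterate_mul {R : Type u} [CommRing R] (δ : R →+ R) (hδ : ∀ a b, δ (a * b) = a * δ b + b * δ a)
    (n : ℕ) (x y : R) :
    δ^[n] (x * y) = ∑ i ∈ range (n + 1), (n.choose i : R) * (δ^[i] x * δ^[n - i] y) := by
  induction n with
  | zero => simp
  | succ n ih =>
    rw [sum_choose_succ_mul (R := R) (fun i j => δ^[i] x * δ^[j] y), Function.iterate_succ_apply' δ n, ih, map_sum,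
      ← sum_add_distrib]
    refine Finset.sum_congr rfl fun i hi => ?_
    rw [← nsmul_eq_mul, map_nsmul, hδ, nsmul_eq_mul, mul_add, Function.iterate_succ_apply' δ i,
      Nat.succ_sub (Nat.lt_succ_iff.1 (Finset.mem_range.1 hi)), Function.iterate_succ_apply' δ (n - i)]
    ring

theorem iterate_p_mul {R : Type u} [CommRing R] (p : ℕ) [hp : Fact p.Prime] [CharP R p] (δ : R →+ R)
    (hδ : ∀ a b, δ (a * b) = a * δ b + b * δ a) (x y : R) :
    δ^[p] (x * y) = x * δ^[p] y + y * δ^[p] x := by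
  rw [iterate_mul δ hδ, sum_range_succ, ← Finset.add_sum_erase _ _ (Finset.mem_range.2 hp.out.pos),
    Finset.sum_eq_zero fun i hi => ?_]
  · simp [mul_comm (δ^[p] x) y]
  · obtain ⟨hi0, hip⟩ := Finset.mem_erase.1 hi
    rw [(CharP.cast_eq_zero_iff R p _).2 (hp.out.dvd_choose_self hi0 (Finset.mem_range.1 hip)), zero_mul]

/-- Coefficients of `(f D)^n`. -/
def coef {P : Type u} [CommRing P] (f : P) (δ : P → P) : ℕ → ℕ → P
  | 0, 0 => 1
  | 0, _ + 1 => 0
  | n + 1, 0 => f * δ (coef f δ n 0)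
  | n + 1, k + 1 => f * (δ (coef f δ n (k + 1)) + coef f δ n k)

theorem coef_map {P Q : Type*} [CommRing P] [CommRing Q] (φ : P →+* Q) (f : P) (δ : P → P) (δ' : Q → Q)
    (h : ∀ x, φ (δ x) = δ' (φ x)) : ∀ n k, φ (coef f δ n k) = coef (φ f) δ' n k
  | 0, 0 => map_one φ
  | 0, _ + 1 => map_zero φ
  | n + 1, 0 => by simp [coef, h, coef_map φ f δ δ' h n]
  | n + 1, k + 1 => by simp [coef, h, coef_map φ f δ δ' h n]

variable {B : Type u} [CommRing B] (f : B) (θ : B →+ B) (hθ : ∀ a b, θ (a * b) = a * θ b + b * θ a)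

include hθ in
theorem map_one_eq_zero : θ 1 = 0 := by simpa using hθ 1 1

include hθ in
theorem coef_of_lt : ∀ n k, n < k → coef f θ n k = 0
  | 0, _ + 1, _ => rfl
  | n + 1, k + 1, h => by
    simp [coef, coef_of_lt n (k + 1) (by omega), coef_of_lt n k (by omega)]

include hθ in
theorem coef_zero_right : ∀ n, coef f θ (n + 1) 0 = 0
  | 0 => by simp [coef, map_one_eq_zero θ hθ]
  | n + 1 => by
    show f * θ (coef f θ (n + 1) 0) = 0
    rw [coef_zero_right n, map_zero, mul_zero]

include hθ in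
theorem coef_self : ∀ n, coef f θ n n = f ^ n
  | 0 => (pow_zero f).symm
  | n + 1 => by
    show f * (θ (coef f θ n (n + 1)) + coef f θ n n) = f ^ (n + 1)
    rw [coef_of_lt f θ hθ n (n + 1) (by omega), coef_self n, map_zero, zero_add, pow_succ']

include hθ in
theorem coef_one : ∀ n, coef f θ (n + 1) 1 = (fun b => f * θ b)^[n] f
  | 0 => by simp [coef]
  | n + 1 => by
    show f * (θ (coef f θ (n + 1) 1) + coef f θ (n + 1) 0) = _
    rw [coef_zero_right f θ hθ n, add_zero, coef_one n, Function.iterate_succ_apply' _ n]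

include hθ in
theorem iterate_smul_apply {M : Type v} [AddCommGroup M] [Module B M] (D : M →+ M)
    (hD : ∀ (b : B) (m : M), D (b • m) = b • D m + θ b • m) (n : ℕ) (m : M) :
    (fun m => f • D m)^[n] m = ∑ k ∈ range (n + 1), coef f θ n k • D^[k] m := by
  induction n with
  | zero => simp [coef]
  | succ n ih =>
    rw [Function.iterate_succ_apply', ih, map_sum, Finset.smul_sum]
    simp only [hD, smul_add, smul_smul, ← Function.iterate_succ_apply' D, Finset.sum_add_distrib]
    rw [add_comm, Finset.sum_range_succ' (fun k => coef f θ (n + 1) k • D^[k] m)]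
    rw [show (∑ k ∈ range (n + 1), coef f θ (n + 1) (k + 1) • D^[k + 1] m) =
      (∑ k ∈ range (n + 1), (f * θ (coef f θ n (k + 1))) • D^[k + 1] m) +
        ∑ k ∈ range (n + 1), (f * coef f θ n k) • D^[k + 1] m by
      rw [← Finset.sum_add_distrib]
      exact Finset.sum_congr rfl fun k _ => by simp [coef, mul_add, add_smul]]
    rw [Finset.sum_range_succ' (fun k => (f * θ (coef f θ n k)) • D^[k] m),
      Finset.sum_range_succ (fun k => (f * θ (coef f θ n (k + 1))) • D^[k + 1] m),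
      coef_of_lt f θ hθ n (n + 1) (by omega), map_zero, mul_zero, zero_smul, add_zero]
    simp [coef]
    abel

/-- The universal ring: iterated derivatives of `f` and of two auxiliary elements. -/
abbrev UP (p : ℕ) : Type := MvPolynomial (ℕ ⊕ (ℕ ⊕ ℕ)) (ZMod p)

/-- The middle coefficients vanish in characteristic `p`. -/
theorem coef_middle (p : ℕ) [hp : Fact p.Prime] [CharP B p] (j : ℕ) (hj : 2 ≤ j) (hjp : j < p)
    (hθ : ∀ a b, θ (a * b) = a * θ b + b * θ a) : coef f θ p j = 0 := by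
  classical
  -- the universal case: functions of `f`, with two auxiliary elements
  let Δ : Derivation (ZMod p) (UP p) (UP p) := mkDerivation (ZMod p)
    (Sum.elim (fun i => X (Sum.inl (i + 1))) (Sum.elim (fun i => X (Sum.inr (Sum.inl (i + 1))))
      (fun i => X (Sum.inr (Sum.inr (i + 1))))) : ℕ ⊕ (ℕ ⊕ ℕ) → (UP p))
  let Δ₀ : Derivation (ZMod p) (MvPolynomial ℕ (ZMod p)) (MvPolynomial ℕ (ZMod p)) :=
    mkDerivation (ZMod p) fun i => X (i + 1)
  have hmul : ∀ a b : (UP p), Δ (a * b) = a * Δ b + b * Δ a := fun a b => by rw [Δ.leibniz]; rfl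
  have hι : ∀ x, rename Sum.inl (Δ₀ x) = Δ (rename Sum.inl x) := by
    intro x
    induction x using MvPolynomial.induction_on with
    | C a => simp
    | add a b ha hb => simp [ha, hb]
    | mul_X a n ha => simp [Δ, Δ₀, ha]
  let c : MvPolynomial ℕ (ZMod p) := coef (X 0) Δ₀ p j
  suffices hc : c = 0 by
    let φ : MvPolynomial ℕ (ZMod p) →+* B := eval₂Hom (ZMod.castHom dvd_rfl B) fun i => θ^[i] f
    have hφ : ∀ x, φ (Δ₀ x) = θ (φ x) := by
      intro x
      induction x using MvPolynomial.induction_on with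
      | C a =>
        obtain ⟨n, rfl⟩ := ZMod.natCast_zmod_surjective (n := p) a
        have : θ (n : B) = 0 := by
          rw [← nsmul_one n, map_nsmul, map_one_eq_zero θ hθ, nsmul_zero]
        simp [φ, this]
      | add a b ha hb => simp [ha, hb]
      | mul_X a n ha =>
        rw [Derivation.leibniz, map_add, smul_eq_mul, smul_eq_mul, map_mul, map_mul, ha, map_mul, hθ]
        simp [φ, Δ₀, Function.iterate_succ_apply', mul_comm]
    have h := coef_map φ (X 0) Δ₀ θ hφ p j
    rw [show coef (X 0) Δ₀ p j = c from rfl, hc, map_zero, show φ (X 0) = f by simp [φ]] at h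
    exact h.symm
  let F : (UP p) := X (Sum.inl 0)
  let y : (UP p) := X (Sum.inr (Sum.inl 0))
  let z : (UP p) := X (Sum.inr (Sum.inr 0))
  have hy : ∀ i, (⇑Δ)^[i] y = X (Sum.inr (Sum.inl i)) ∧ (⇑Δ)^[i] z = X (Sum.inr (Sum.inr i)) := by
    intro i
    induction i with
    | zero => exact ⟨rfl, rfl⟩
    | succ i ih => simp [Function.iterate_succ_apply', ih, Δ]
  let E : (UP p) →+ (UP p) := AddMonoidHom.mk' (fun x => F * Δ x) fun a b => by simp [mul_add]
  have hE := iterate_p_mul p E (fun a b => by show F * Δ (a * b) = a * (F * Δ b) + b * (F * Δ a); rw [hmul]; ring) y z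
  have hexp : ∀ w : (UP p), (⇑E)^[p] w = ∑ k ∈ range (p + 1), coef F Δ p k * (⇑Δ)^[k] w := fun w => by
    have := iterate_smul_apply (M := (UP p)) F (Δ : (UP p) →+ (UP p)) hmul (Δ : (UP p) →+ (UP p)) (fun b m => by
      show Δ (b * m) = b * Δ m + Δ b * m
      rw [hmul, mul_comm m]) p w
    simpa [smul_eq_mul, E] using this
  let ψ : (UP p) →+* MvPolynomial ℕ (ZMod p) := eval₂Hom C
    (Sum.elim X (Sum.elim (fun i => if i = 1 then 1 else 0) fun i => if i = j - 1 then 1 else 0))
  have hψc : ∀ k, ψ (coef F Δ p k) = coef (X 0) Δ₀ p k := fun k => by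
    have h1 : coef F Δ p k = rename Sum.inl (coef (X 0) Δ₀ p k) := by
      have := coef_map (rename (Sum.inl : ℕ → ℕ ⊕ (ℕ ⊕ ℕ)) :
        MvPolynomial ℕ (ZMod p) →ₐ[ZMod p] (UP p)).toRingHom (X 0) Δ₀ Δ hι p k
      simpa [F] using this.symm
    rw [h1]
    simp only [ψ, coe_eval₂Hom, eval₂_rename, Sum.elim_comp_inl, eval₂_eta]
  have h := congrArg ψ hE
  rw [hexp, hexp, hexp] at h
  simp only [map_add, map_mul, map_sum] at h
  have h0 : ψ y = 0 ∧ ψ z = 0 := by
    constructor
    · simp [ψ, y]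
    · simp [ψ, z, show ¬ 0 = j - 1 by omega]
  rw [h0.1, h0.2, zero_mul, zero_mul, add_zero] at h
  have hterm : ∀ k ∈ range (p + 1), k ≠ j → ψ (coef F Δ p k) * ψ ((⇑Δ)^[k] (y * z)) = 0 := by
    intro k _ hk
    rw [show (⇑Δ)^[k] (y * z) = _ from iterate_mul (Δ : (UP p) →+ (UP p)) hmul k y z, map_sum,
      Finset.sum_eq_zero, mul_zero]
    intro i hi
    rw [show (⇑(Δ : (UP p) →+ (UP p)))^[i] y = _ from (hy i).1, show (⇑(Δ : (UP p) →+ (UP p)))^[k - i] z = _ from (hy (k - i)).2]
    simp only [ψ, map_mul, coe_eval₂Hom, eval₂_X, Sum.elim_inr, Sum.elim_inl]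
    split_ifs with h1 h2
    · exfalso; rw [Finset.mem_range] at hi; omega
    all_goals simp
  rw [Finset.sum_eq_single_of_mem j (Finset.mem_range.2 (by omega)) hterm,
    show (⇑Δ)^[j] (y * z) = _ from iterate_mul (Δ : (UP p) →+ (UP p)) hmul j y z, map_sum,
    Finset.sum_eq_single_of_mem 1 (Finset.mem_range.2 (by omega)) (fun i _ hi => by
      rw [show (⇑(Δ : (UP p) →+ (UP p)))^[i] y = _ from (hy i).1]
      simp [ψ, hi]),
    show (⇑(Δ : (UP p) →+ (UP p)))^[1] y = _ from (hy 1).1, show (⇑(Δ : (UP p) →+ (UP p)))^[j - 1] z = _ from (hy (j - 1)).2, hψc,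
    Nat.choose_one_right] at h
  simp only [ψ, map_mul, map_natCast, coe_eval₂Hom, eval₂_X, Sum.elim_inr, Sum.elim_inl, if_true, mul_one] at h
  rcases mul_eq_zero.1 h with h | h
  · exact h
  · rw [CharP.cast_eq_zero_iff (MvPolynomial ℕ (ZMod p)) p] at h
    exact absurd (Nat.le_of_dvd (by omega) h) (by omega)

/-- Hochschild's formula. -/
theorem iterate_smul_p {M : Type v} [AddCommGroup M] [Module B M] (p : ℕ) [hp : Fact p.Prime] [CharP B p]
    (hθ : ∀ a b, θ (a * b) = a * θ b + b * θ a) (D : M →+ M)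
    (hD : ∀ (b : B) (m : M), D (b • m) = b • D m + θ b • m) (m : M) :
    (fun m => f • D m)^[p] m = f ^ p • D^[p] m + (fun b => f * θ b)^[p - 1] f • D m := by
  have h2 := hp.out.two_le
  rw [iterate_smul_apply f θ hθ D hD, Finset.sum_range_succ, coef_self f θ hθ,
    Finset.sum_eq_single_of_mem 1 (Finset.mem_range.2 (by omega)) fun k hk hk1 => ?_, Function.iterate_one,
    add_comm, ← coef_one f θ hθ (p - 1), Nat.sub_add_cancel hp.out.one_le]
  rcases Nat.eq_zero_or_pos k with rfl | hk0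
  · obtain ⟨n, rfl⟩ := Nat.exists_eq_succ_of_ne_zero (show p ≠ 0 by omega)
    rw [coef_zero_right f θ hθ, zero_smul]
  · rw [coef_middle f θ p k (by omega) (Finset.mem_range.1 hk) hθ, zero_smul]

end Groth.Agent.Hochschild
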